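import Cfsg.Agent.Lib.KnownA.McLInvol.Checks

/-!
The involution of the McLaughlin group: its class, its fixed points in the configuration of vectors
and two further elements of its centraliser.
-/

set_option autoImplicit false
set_option maxRecDepth 100000

namespace CfsgLib.KnownA.McLInvol

open Cfsg CfsgLib.Golay CfsgLib.Golay.FixSearch CfsgLib.Mathieu
open CfsgLib.Fusion.MathieuCert (el P H okEls P_injective P_zero sq_spec mem_H card_H H_le_fix)
open CfsgLib.Fusion.MathieuCert.M22
open CfsgLib.KnownA.Mathieu (eqW eqW_sound)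
open scoped Pointwise

/-- The involution as a permutation. -/
noncomputable def zPerm : fixMasks X22 := ⟨permOf zc, inFix_mem check_root.1⟩

/-- Its square root. -/
noncomputable def rPerm : fixMasks X22 := ⟨permOf rootc, inFix_mem check_root.2.1⟩

theorem valid_zc : valid zc = true := inFix_valid check_root.1

theorem zPerm_sq : zPerm * zPerm = 1 := Subtype.ext (by
  have h := eqW_sound (L := [zc, zc]) (L' := []) (by simp [valid_zc]) check_root.2.2.2.1
  simpa [zPerm] using h)

theorem rPerm_sq : rPerm * rPerm = zPerm := Subtype.ext (by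
  have h := eqW_sound (L := [rootc, rootc]) (L' := [zc])
    (by simp [valid_zc, inFix_valid check_root.2.1]) check_root.2.2.1
  simpa [zPerm, rPerm] using h)

/-- The involution. -/
noncomputable def tM : mclGroup := toMcl zPerm

/-- Its square root. -/
noncomputable def xM : mclGroup := toMcl rPerm

theorem tM_sq : tM * tM = 1 := by rw [tM, ← map_mul, zPerm_sq, map_one]

theorem xM_sq : xM * xM = tM := by rw [xM, ← map_mul, rPerm_sq, tM]

theorem tM_ne : tM ≠ 1 := fun h => by
  have h1 : zPerm = 1 := toMcl_injective (h.trans (map_one _).symm)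
  have h2 : permOf zc (pt 1) = pt 1 := by
    rw [show permOf zc = 1 from congrArg Subtype.val h1]
    rfl
  rw [permOf_pt valid_zc (by norm_num)] at h2
  have := congrArg idx h2
  rw [idx_pt (valid_lt valid_zc (by norm_num)), idx_pt (by norm_num)] at this
  exact check_root.2.2.2.2 this

theorem orderOf_tM : orderOf tM = 2 := orderOf_eq_prime (by rw [pow_two, tM_sq]) tM_ne

/-- Every involution is conjugate to `tM`. -/
theorem isConj_tM {y : mclGroup} (hy : orderOf y = 2) : IsConj y tM := by
  set C := CfsgLib.Fusion.MathieuCert.M22.cert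
  have hc0 : Nat.card (((H C 0).subgroupOf (fixMasks X22)).map toMcl) = 2 ^ C.m := by
    rw [← Nat.card_congr (Subgroup.equivMapOfInjective _ _ toMcl_injective).toEquiv,
      Nat.card_congr (Subgroup.subgroupOfEquivOfLe (H_le_fix els_ok 0)).toEquiv,
      card_H els_ok nxt_ok pred_ok]
  have hidx : ¬ 2 ∣ (((H C 0).subgroupOf (fixMasks X22)).map toMcl).index := by
    have h := Subgroup.card_mul_index (((H C 0).subgroupOf (fixMasks X22)).map toMcl)
    rw [hc0, card_mclGroup, show C.m = 7 from rfl] at h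
    omega
  haveI : Fact (Nat.Prime 2) := ⟨Nat.prime_two⟩
  set S₀ := (IsPGroup.of_card hc0).toSylow hidx
  have hp : IsPGroup 2 (Subgroup.zpowers y) :=
    IsPGroup.of_card (n := 1) (by rw [Nat.card_zpowers, hy, pow_one])
  obtain ⟨Q, hQ⟩ := hp.exists_le_sylow
  obtain ⟨g, hg⟩ := MulAction.exists_smul_eq mclGroup Q S₀
  have hy' : g * y * g⁻¹ ∈ ((H C 0).subgroupOf (fixMasks X22)).map toMcl := by
    have h1 : MulAut.conj g y ∈ (g • Q : Sylow 2 mclGroup) := by
      show MulAut.conj g y ∈ (MulAut.conj g • (Q : Subgroup mclGroup))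
      exact Subgroup.smul_mem_pointwise_smul _ _ _ (hQ (Subgroup.mem_zpowers y))
    rw [hg] at h1
    exact h1
  obtain ⟨σ, hσ, hσy⟩ := hy'
  obtain ⟨d, hd, -, hdσ⟩ := (mem_H els_ok nxt_ok pred_ok).1 hσ
  replace hdσ : P C d = (σ : Equiv.Perm GolayPt) := hdσ
  have hyy : y * y = 1 := by rw [← pow_two, ← hy, pow_orderOf_eq_one]
  have hσσ : σ * σ = 1 := toMcl_injective (by
    rw [map_mul, hσy, map_one, show g * y * g⁻¹ * (g * y * g⁻¹) = g * (y * y) * g⁻¹ by group, hyy]
    group)
  have hσ1 : σ ≠ 1 := fun h => by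
    rw [h, map_one, eq_comm, mul_inv_eq_one, mul_eq_left] at hσy
    rw [hσy, orderOf_one] at hy
    exact absurd hy (by norm_num)
  have hd0 : d ≠ 0 := fun h => hσ1 (Subtype.ext (by rw [← hdσ, h, P_zero els_ok]; rfl))
  obtain ⟨hs1, hs2⟩ := sq_spec els_ok sq_ok hd
  have hsq : C.sq.get d = 0 := P_injective els_ok hs1 (Nat.two_pow_pos _) (by
    rw [hs2, P_zero els_ok, hdσ]
    exact congrArg Subtype.val hσσ)
  have hc := check_conj
  simp only [List.all_eq_true, List.mem_range, Bool.or_eq_true, List.any_eq_true,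
    Bool.and_eq_true, Bool.not_eq_true'] at hc
  rcases hc d hd with (h | h) | ⟨e, -, ⟨he1, he2⟩, he3⟩
  · exact absurd (Nat.eq_of_beq_eq_true h) hd0
  · rw [hsq] at h; exact absurd h (by decide)
  have hv : valid (el C d) = true := CfsgLib.Fusion.MathieuCert.el_valid els_ok hd
  have he := eqW_sound (L := [e.2, el C d]) (L' := [zc, e.2])
    (by simp [hv, inFix_valid he2, valid_zc]) he3
  have hk : (⟨permOf e.2, inFix_mem he2⟩ : fixMasks X22) * σ = zPerm * ⟨permOf e.2, inFix_mem he2⟩ :=
    Subtype.ext (by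
      show permOf e.2 * (σ : Equiv.Perm GolayPt) = permOf zc * permOf e.2
      rw [← hdσ]
      simpa [P] using he)
  refine isConj_iff.2 ⟨toMcl ⟨permOf e.2, inFix_mem he2⟩ * g, ?_⟩
  have h := congrArg toMcl hk
  rw [map_mul, map_mul, hσy] at h
  rw [show toMcl ⟨permOf e.2, inFix_mem he2⟩ * g * y *
      (toMcl ⟨permOf e.2, inFix_mem he2⟩ * g)⁻¹ =
      toMcl ⟨permOf e.2, inFix_mem he2⟩ * (g * y * g⁻¹) *
        (toMcl ⟨permOf e.2, inFix_mem he2⟩)⁻¹ by group, h]
  rw [tM]
  group

theorem tM_apply (v : leechLattice) (p : GolayPt) :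
    (((tM : Co0) • v : leechLattice) : GolayPt → ℤ) (permOf zc p) = (v : GolayPt → ℤ) p :=
  perm_apply ⟨permOf zc, le_M24 zPerm.2⟩ v p

theorem tM_fix_iff (v : leechLattice) : (tM : Co0) • v = v ↔
    ∀ p, (v : GolayPt → ℤ) (permOf zc p) = (v : GolayPt → ℤ) p := by
  constructor
  · intro h p
    have := tM_apply v p
    rwa [h] at this
  · intro h
    refine Subtype.ext (funext fun i => ?_)
    obtain ⟨p, rfl⟩ := (permOf zc).surjective i
    rw [tM_apply, h]

theorem inLat_ptF {i : ℕ} (hi : i < 105) : inLat (ptF i) = true := by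
  have h := check_pts.2.2.1
  simp only [List.all_eq_true, List.mem_range, Bool.and_eq_true] at h
  exact (h i hi).1

/-- The fixed vectors. -/
def ptV (i : Fin 105) : leechLattice := ⟨ptF i, inLat_mem (inLat_ptF i.2)⟩

theorem ptV_facts (i : Fin 105) : sqNorm (ptV i : GolayPt → ℤ) = 32 ∧
    dotInt (fiveV : GolayPt → ℤ) (ptV i) = -8 ∧ dotInt (min44 : GolayPt → ℤ) (ptV i) = 8 := by
  have h := check_norms
  simp only [List.all_eq_true, List.mem_range, Bool.and_eq_true, decide_eq_true_iff] at h
  exact ⟨(h i i.2).1.1, (h i i.2).1.2, (h i i.2).2⟩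

theorem tM_ptV (i : Fin 105) : (tM : Co0) • ptV i = ptV i := by
  refine (tM_fix_iff _).2 fun p => ?_
  have h := check_pts.2.2.1
  simp only [List.all_eq_true, List.mem_range, Bool.and_eq_true, decide_eq_true_iff] at h
  have := (h i i.2).2 _ (idx_lt p)
  rw [pt_idx] at this
  rw [permOf_apply valid_zc p]
  exact this

theorem ptV_injective : Function.Injective ptV := by
  intro i j h
  have h' : ptF i = ptF j := congrArg Subtype.val h
  have hd := check_distinct
  simp only [List.all_eq_true, List.mem_range, Bool.and_eq_true, List.any_eq_true,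
    Bool.not_eq_true', decide_eq_false_iff_not] at hd
  by_contra hne
  rcases Nat.lt_or_gt_of_ne (fun e => hne (Fin.ext e)) with hlt | hlt
  · obtain ⟨p, -, hp⟩ := (hd j j.2 i hlt).2
    exact hp (congrFun h' (pt p)).symm
  · obtain ⟨p, -, hp⟩ := (hd i i.2 j hlt).2
    exact hp (congrFun h' (pt p))

/-- The index of `w11`. -/
def wI : Fin 105 := ⟨w11Idx, check_pts.2.1⟩

theorem ptV_wI : ptV wI = w11 := by
  refine Subtype.ext (funext fun p => ?_)
  have h := check_pts.2.2.2
  simp only [List.all_eq_true, List.mem_range, decide_eq_true_iff] at h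
  have hw : ∀ k < 24, (w11 : GolayPt → ℤ) (pt k) = if k = 23 then 3 else -1 := by decide +kernel
  rw [← pt_idx p, hw _ (idx_lt p)]
  exact h _ (idx_lt p)

/-- The table is complete. -/
theorem exists_ptV {y : leechLattice} (hn : sqNorm (y : GolayPt → ℤ) = 32)
    (h5 : dotInt (fiveV : GolayPt → ℤ) y = -8) (hd : dotInt (min44 : GolayPt → ℤ) y = 8)
    (ht : (tM : Co0) • y = y) : ∃ i, ptV i = y := by
  obtain ⟨hp, ho⟩ := check_orbs
  simp only [List.all_eq_true, Bool.and_eq_true, List.any_eq_true, List.mem_range] at ho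
  obtain ⟨l, hl, hly⟩ := searchP_sound y.2 hn h5 hd orbsL (orbsL.map cnt) rfl hp
    (fun m hm => by obtain ⟨i, hi, hb⟩ := (ho m hm).2; exact ⟨i, hi, hb⟩)
    (fun m hm => Nat.le_of_ble_eq_true (ho m hm).1.2)
    (fun m hm => constant_on_cycle valid_zc (ho m hm).1.1 ((tM_fix_iff y).1 ht))
  have hin : inTab l = true := by
    have e : ∀ k, k < 2 → ∀ l ∈ searchE orbsL (orbsL.map cnt) (entP.getD k ([], fun _ => false)),
        inTab l = true := by
      intro k hk
      interval_cases k
      · exact List.all_eq_true.1 check_search_even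
      · exact List.all_eq_true.1 check_search_odd
    obtain ⟨a, ha, hla⟩ := List.mem_flatMap.1 hl
    simp only [entP, List.mem_cons, List.not_mem_nil, or_false] at ha
    rcases ha with rfl | rfl
    · exact e 0 (by norm_num) l hla
    · exact e 1 (by norm_num) l hla
  simp only [inTab, List.any_eq_true, List.all_eq_true, List.mem_range, decide_eq_true_iff] at hin
  obtain ⟨c, hc, hlc⟩ := hin
  obtain ⟨i, hi, rfl⟩ := List.getElem_of_mem hc
  refine ⟨⟨i, check_pts.1 ▸ hi⟩, Subtype.ext (funext fun p => ?_)⟩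
  show valL (decL (ptsL.getD i 0)) p = _
  rw [hly p, valL, valL, hlc _ (idx_lt p), List.getD_eq_getElem _ _ hi]

/-- A point is sent to a point by the centraliser. -/
theorem exists_smul_ptV {g : mclGroup} (hg : g * tM = tM * g) (i : Fin 105) :
    ∃ j, (g : Co0) • ptV i = ptV j := by
  obtain ⟨f1, f2, f3⟩ := ptV_facts i
  have g1 : dotInt (fiveV : GolayPt → ℤ) ((g : Co0) • ptV i : leechLattice) = -8 := by
    have := co0_dot (g : Co0) fiveV (ptV i)
    rwa [show (g : Co0) • fiveV = fiveV from g.2.1, f2] at this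
  have g2 : dotInt (min44 : GolayPt → ℤ) ((g : Co0) • ptV i : leechLattice) = 8 := by
    have := co0_dot (g : Co0) min44 (ptV i)
    rwa [show (g : Co0) • min44 = min44 from g.2.2, f3] at this
  have g3 : (tM : Co0) • ((g : Co0) • ptV i) = (g : Co0) • ptV i := by
    have e : (tM : Co0) * (g : Co0) = (g : Co0) * (tM : Co0) := (congrArg Subtype.val hg).symm
    rw [← mul_smul, e, mul_smul, tM_ptV]
  obtain ⟨j, hj⟩ := exists_ptV ((co0_sq _ _).trans f1) g1 g2 g3
  exact ⟨j, hj.symm⟩

theorem matF_ok (k : Fin 2) : matOK (matF k) = true := by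
  fin_cases k
  exacts [check_mat0, check_mat1]

theorem matF_facts (k : Fin 2) (p : GolayPt) :
    matFun (matF k) (fiveV : GolayPt → ℤ) p = (fiveV : GolayPt → ℤ) p ∧
    matFun (matF k) (min44 : GolayPt → ℤ) p = (min44 : GolayPt → ℤ) p ∧
    ∀ q, matF k (permOf zc p) (permOf zc q) = matF k p q := by
  have h := check_mat_fix
  simp only [List.all_eq_true, List.mem_range, Bool.and_eq_true, decide_eq_true_iff] at h
  obtain ⟨⟨h1, h2⟩, h3⟩ := h k k.2 _ (idx_lt p)
  rw [pt_idx] at h1 h2 h3
  refine ⟨h1, h2, fun q => ?_⟩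
  have := h3 _ (idx_lt q)
  rw [pt_idx] at this
  rwa [permOf_apply valid_zc p, permOf_apply valid_zc q]

/-- A matrix element. -/
noncomputable def gM (k : Fin 2) : mclGroup :=
  ⟨matCo0 (matF k) (matF_ok k),
    Subtype.ext (funext fun p => (congrFun (matCo0_smul _ _ fiveV) p).trans (matF_facts k p).1),
    Subtype.ext (funext fun p => (congrFun (matCo0_smul _ _ min44) p).trans (matF_facts k p).2.1)⟩

theorem gM_comm (k : Fin 2) : gM k * tM = tM * gM k := by
  refine Subtype.ext (co0_ext fun v => Subtype.ext (funext fun i => ?_))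
  show (((matCo0 (matF k) (matF_ok k) * (tM : Co0)) • v : leechLattice) : GolayPt → ℤ) i =
    ((((tM : Co0) * matCo0 (matF k) (matF_ok k)) • v : leechLattice) : GolayPt → ℤ) i
  obtain ⟨p, rfl⟩ := (permOf zc).surjective i
  rw [mul_smul, mul_smul, tM_apply, matCo0_smul, matCo0_smul]
  simp only [matFun, dotInt]
  rw [← Equiv.sum_comp (permOf zc)]
  exact congrArg (· / 8) (Finset.sum_congr rfl fun q _ => by
    rw [(matF_facts k p).2.2 q, tM_apply])

theorem gM_ptV (k : Fin 2) (i : Fin 105) :
    ∃ j : Fin 105, (gM k : Co0) • ptV i = ptV j ∧ j.val = imgTab k i := by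
  have h := check_img
  simp only [List.all_eq_true, List.mem_range, Bool.and_eq_true, decide_eq_true_iff] at h
  obtain ⟨h1, h2⟩ := h k k.2 i i.2
  refine ⟨⟨imgTab k i, Nat.le_of_ble_eq_true h1⟩, Subtype.ext (funext fun p => ?_), rfl⟩
  show ((matCo0 (matF k) (matF_ok k) • ptV i : leechLattice) : GolayPt → ℤ) p = _
  rw [matCo0_smul]
  have := h2 _ (idx_lt p)
  rw [pt_idx] at this
  exact this

end CfsgLib.KnownA.McLInvol
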