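import Cfsg.Agent.Lib.Golay.FixSearch

/-!
A search with quadratic pruning for lattice vectors of sum of squares 32 with prescribed products
`-8`, `8` that are constant on prescribed sets.
-/

set_option autoImplicit false
set_option maxRecDepth 100000

namespace CfsgLib.KnownA.McLInvol

open Cfsg CfsgLib.Golay CfsgLib.Golay.FixSearch

/-- The quadratic bound. -/
def boundB (W S rem : ℤ) : Bool :=
  decide (2 ≤ rem) && decide ((-14 - S) * (-14 - S) ≤ (rem - 2) * (W + 8))

/-- Values on sets of the given sizes, pruned. -/
def valuesP (ent : List ℤ) : List ℤ → ℤ → ℤ → List (List ℤ)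
  | [], S, rem => tailVals 8 S rem
  | c :: cs, S, rem => ent.flatMap fun v =>
      bif boundB (sumL cs) (S + c * v) (rem - c * (v * v)) then
        (valuesP ent cs (S + c * v) (rem - c * (v * v))).map (v :: ·) else []

theorem lsum_sq_le : ∀ (O : List ℕ) (vs : List ℤ),
    lsum O vs * lsum O vs ≤ sumL (O.map cnt) * wsum O vs
  | [], vs => by simp [lsum, sumL]
  | m :: O, [] => by simp [lsum, wsum]
  | m :: O, v :: vs => by
    have ih := lsum_sq_le O vs
    have hc := cnt_nonneg m
    have hw := wsum_nonneg O vs
    have hW : 0 ≤ sumL (O.map cnt) := by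
      clear ih hw
      induction O with
      | nil => simp [sumL]
      | cons a O ih => simp only [List.map_cons, sumL]; exact add_nonneg (cnt_nonneg a) ih
    simp only [lsum, wsum, List.map_cons, sumL]
    have key : 2 * v * lsum O vs ≤ sumL (O.map cnt) * (v * v) + wsum O vs := by
      have h1 : (2 * v * lsum O vs) * (2 * v * lsum O vs) ≤
          (sumL (O.map cnt) * (v * v) + wsum O vs) * (sumL (O.map cnt) * (v * v) + wsum O vs) := by
        have h2 := mul_le_mul_of_nonneg_left ih (mul_self_nonneg (2 * v))
        nlinarith [mul_self_nonneg (sumL (O.map cnt) * (v * v) - wsum O vs)]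
      have h3 : 0 ≤ sumL (O.map cnt) * (v * v) + wsum O vs :=
        add_nonneg (mul_nonneg hW (mul_self_nonneg v)) hw
      by_contra h
      push Not at h
      nlinarith
    have := mul_le_mul_of_nonneg_left key hc
    nlinarith [ih]

theorem lsum_bound (O : List ℕ) (vs : List ℤ) (u : ℤ) :
    (lsum O vs + 4 * u) * (lsum O vs + 4 * u) ≤
      (sumL (O.map cnt) + 8) * (wsum O vs + 2 * (u * u)) := by
  have h := lsum_sq_le O vs
  have hw := wsum_nonneg O vs
  have hW : 0 ≤ sumL (O.map cnt) := by
    clear h hw
    induction O with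
    | nil => simp [sumL]
    | cons a O ih => simp only [List.map_cons, sumL]; exact add_nonneg (cnt_nonneg a) ih
  have key : 8 * u * lsum O vs ≤ 2 * (u * u) * sumL (O.map cnt) + 8 * wsum O vs := by
    have h1 : (8 * u * lsum O vs) * (8 * u * lsum O vs) ≤
        (2 * (u * u) * sumL (O.map cnt) + 8 * wsum O vs) *
          (2 * (u * u) * sumL (O.map cnt) + 8 * wsum O vs) := by
      have h2 := mul_le_mul_of_nonneg_left h (mul_self_nonneg (8 * u))
      nlinarith [mul_self_nonneg (2 * (u * u) * sumL (O.map cnt) - 8 * wsum O vs)]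
    have h3 : 0 ≤ 2 * (u * u) * sumL (O.map cnt) + 8 * wsum O vs :=
      add_nonneg (mul_nonneg (mul_nonneg (by norm_num) (mul_self_nonneg u)) hW) (by linarith)
    by_contra hne
    push Not at hne
    nlinarith
  nlinarith

theorem valuesP_mem {a b : ℤ} (hab : a + b = 2) {ent : List ℤ} : ∀ (O : List ℕ) (vs : List ℤ) (S rem : ℤ),
    vs.length = O.length → (∀ v ∈ vs, v ∈ ent) → wsum O vs + (a * a + b * b) = rem →
    S + lsum O vs + 5 * a + b = -8 → vs ++ [a, b] ∈ valuesP ent (O.map cnt) S rem := by
  intro O
  induction O with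
  | nil =>
    intro vs S rem h _ hs hl
    obtain rfl := List.eq_nil_of_length_eq_zero h
    simp only [wsum, lsum, zero_add, add_zero] at hs hl
    have e1 : (-8 - (8 : ℤ) / 4 - S) % 4 = 0 := by omega
    have e2 : (-8 - (8 : ℤ) / 4 - S) / 4 = a := by omega
    have e3 : (8 : ℤ) / 4 - a = b := by omega
    simp only [List.map_nil, valuesP, tailVals, List.nil_append]
    rw [e1, e2, e3, hs]
    simp
  | cons m O ih =>
    intro vs S rem h he hs hl
    rcases vs with _ | ⟨v, vs⟩
    · simp at h
    simp only [wsum] at hs
    simp only [lsum] at hl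
    simp only [List.map_cons, valuesP, List.mem_flatMap]
    refine ⟨v, he v (List.mem_cons_self ..), ?_⟩
    have hb : boundB (sumL (O.map cnt)) (S + cnt m * v) (rem - cnt m * (v * v)) = true := by
      obtain rfl : b = 2 - a := by omega
      have h1 : rem - cnt m * (v * v) - 2 = wsum O vs + 2 * ((a - 1) * (a - 1)) := by linarith
      have h2 : -14 - (S + cnt m * v) = lsum O vs + 4 * (a - 1) := by linarith
      have h3 := wsum_nonneg O vs
      have h4 := mul_self_nonneg (a - 1)
      simp only [boundB, Bool.and_eq_true, decide_eq_true_iff]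
      refine ⟨by linarith, ?_⟩
      rw [h1, h2]
      exact (lsum_bound O vs (a - 1)).trans_eq (mul_comm _ _)
    rw [hb, cond_true, List.mem_map]
    exact ⟨vs ++ [a, b], ih vs _ _ (by simpa using h) (fun u hu => he u (List.mem_cons_of_mem _ hu))
      (by omega) (by omega), rfl⟩

/-- The even and the odd entries, with the condition whose fibre is a codeword. -/
def entP : List (List ℤ × (ℤ → Bool)) :=
  [([-4, -2, 0, 2, 4], fun v => v / 2 % 2 == 1), ([-5, -3, -1, 1, 3, 5], fun v => v % 4 == 3)]

/-- The union of the sets whose value satisfies the condition. -/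
def maskV (c : ℤ → Bool) : List ℕ → List ℤ → ℕ
  | m :: O, v :: vs => bif c v then m ||| maskV c O vs else maskV c O vs
  | _, _ => 0

theorem maskV_testBit (c : ℤ → Bool) (f : ℕ → ℤ) (i : ℕ) : ∀ O : List ℕ,
    (maskV c O (O.map f)).testBit i = O.any fun m => m.testBit i && c (f m)
  | [] => by simp [maskV]
  | m :: O => by
    cases h : c (f m) <;> simp [maskV, h, maskV_testBit c f i O, Nat.testBit_or]

/-- The candidates of one parity. -/
def searchE (O : List ℕ) (cs : List ℤ) (e : List ℤ × (ℤ → Bool)) : List (List ℤ) :=
  (((valuesP e.1 cs 0 32).filter fun vs => isCode (maskV e.2 (O ++ tailSets) vs)).map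
    (buildL (O ++ tailSets))).filter leechB

/-- All candidates. -/
def searchP (O : List ℕ) (cs : List ℤ) : List (List ℤ) :=
  entP.flatMap (searchE O cs)

theorem searchP_sound {y : GolayPt → ℤ} (hy : y ∈ leechLattice) (hn : sqNorm y = 32)
    (h5 : dotInt (fiveV : GolayPt → ℤ) y = -8) (hd : dotInt (min44 : GolayPt → ℤ) y = 8)
    (O₀ : List ℕ) (cs : List ℤ) (hcs : cs = O₀.map cnt) (hp : partB (O₀ ++ tailSets) = true)
    (hne : ∀ m ∈ O₀, ∃ i < 24, m.testBit i = true) (hlt : ∀ m ∈ O₀, m < 16777216)
    (hc₀ : ∀ m ∈ O₀, ∃ v, ∀ i < 24, m.testBit i = true → y (pt i) = v) :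
    ∃ l ∈ searchP O₀ cs, ∀ i, y i = valL l i := by
  classical
  set O := O₀ ++ tailSets with hO
  have hbits : ∀ i < 24, ((8388608 : ℕ).testBit i = true → i = 23) ∧ ((1 : ℕ).testBit i = true → i = 0) := by
    decide +kernel
  have hc : ∀ m ∈ O, ∃ v, ∀ i < 24, m.testBit i = true → y (pt i) = v := by
    intro m hm
    simp only [hO, List.mem_append, tailSets, List.mem_cons, List.not_mem_nil, or_false] at hm
    rcases hm with hm | rfl | rfl
    · exact hc₀ m hm
    · exact ⟨y (pt 23), fun i hi hb => by rw [(hbits i hi).1 hb]⟩
    · exact ⟨y (pt 0), fun i hi hb => by rw [(hbits i hi).2 hb]⟩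
  let val : ℕ → ℤ := fun m =>
    if h : ∃ i < 24, m.testBit i = true then y (pt h.choose) else 0
  have hval : ∀ m ∈ O, ∀ i < 24, m.testBit i = true → y (pt i) = val m := by
    intro m hm i hi hb
    obtain ⟨v, hv⟩ := hc m hm
    have h : ∃ i < 24, m.testBit i = true := ⟨i, hi, hb⟩
    simp only [val, dif_pos h]
    rw [hv i hi hb, hv _ h.choose_spec.1 h.choose_spec.2]
  obtain ⟨ent, hent, hentv, hcode⟩ : ∃ ent ∈ entP, (∀ m ∈ O₀, val m ∈ ent.1) ∧
      isCode (maskOf (fun i => ent.2 (y (pt i))) 24) = true := by
    have hL : leechB ((List.range 24).map fun i => y (pt i)) = true :=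
      leechB_sound (fun p => by
        rw [valL, List.getD_eq_getElem _ _ (by simpa using idx_lt p)]
        simp [pt_idx]) hy
    have hx : ∀ i < 24, ((List.range 24).map fun i => y (pt i)).getD i 0 = y (pt i) := fun i hi => by
      rw [List.getD_eq_getElem _ _ (by simpa using hi)]; simp
    have hcongr : ∀ (f g : ℕ → Bool), (∀ i < 24, f i = g i) → maskOf f 24 = maskOf g 24 := by
      intro f g h
      refine Nat.eq_of_testBit_eq fun i => ?_
      rw [maskOf_testBit, maskOf_testBit]
      by_cases hi : i < 24
      · rw [h i hi]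
      · simp [hi]
    rw [leechB, hx 0 (by norm_num)] at hL
    rcases parity_cases hy with hev | hodd
    · rw [hev (pt 0), beq_self_eq_true, cond_true] at hL
      simp only [Bool.and_eq_true] at hL
      refine ⟨_, List.mem_cons_self, fun m hm => ?_, ?_⟩
      rotate_left
      · rw [← hL.1.2]
        exact congrArg isCode (hcongr _ _ fun i hi => by simp only [hx i hi])
      have e : val m = y (pt (hne m hm).choose) := by simp only [val, dif_pos (hne m hm)]
      have hb := abs_entry_le (B := 5) (by norm_num) (by norm_num) hn (pt (hne m hm).choose)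
      have hq := hev (pt (hne m hm).choose)
      rw [← e] at hb hq
      obtain ⟨h1, h2⟩ := hb
      generalize val m = v at h1 h2 hq ⊢
      interval_cases v <;> simp_all
    · rw [hodd (pt 0), show (((1 : ℤ) == 0) : Bool) = false from rfl, cond_false] at hL
      simp only [Bool.and_eq_true] at hL
      refine ⟨_, List.mem_cons_of_mem _ List.mem_cons_self, fun m hm => ?_, ?_⟩
      rotate_left
      · rw [← hL.1.2]
        exact congrArg isCode (hcongr _ _ fun i hi => by simp only [hx i hi])
      have e : val m = y (pt (hne m hm).choose) := by simp only [val, dif_pos (hne m hm)]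
      have hb := abs_entry_le (B := 5) (by norm_num) (by norm_num) hn (pt (hne m hm).choose)
      have hq := hodd (pt (hne m hm).choose)
      rw [← e] at hb hq
      obtain ⟨h1, h2⟩ := hb
      generalize val m = v at h1 h2 hq ⊢
      interval_cases v <;> simp_all
  simp only [partB, List.all_eq_true, List.mem_range] at hp
  have hone : ∀ (f : ℤ → ℤ) (p : GolayPt),
      sumL ((O.map fun m => bif m.testBit (idx p) then f (val m) else 0)) = f (y p) := by
    intro f p
    have hlen : (O.filter fun m => m.testBit (idx p)).length = 1 :=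
      Nat.eq_of_beq_eq_true (hp _ (idx_lt p))
    have gen : ∀ l : List ℕ, (∀ m ∈ l, m ∈ O) →
        sumL (l.map fun m => bif m.testBit (idx p) then f (val m) else 0) =
          (l.filter fun m => m.testBit (idx p)).length * f (y p) := by
      intro l
      induction l with
      | nil => intro _; simp [sumL]
      | cons m l ih =>
        intro hl
        have ih' := ih fun u hu => hl u (List.mem_cons_of_mem _ hu)
        cases hb : m.testBit (idx p)
        · simp [sumL, hb, ih']
        · have e := hval m (hl m (List.mem_cons_self ..)) (idx p) (idx_lt p) hb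
          rw [pt_idx] at e
          simp [sumL, hb, ih', e]; ring
    rw [gen O fun _ h => h, hlen]; simp
  have hw : ∀ l : List ℕ, wsum l (l.map val) =
      ∑ p : GolayPt, sumL (l.map fun m => bif m.testBit (idx p) then val m * val m else 0) := by
    intro l
    induction l with
    | nil => simp [wsum, sumL]
    | cons m l ih =>
      simp only [List.map_cons, wsum, sumL, Finset.sum_add_distrib, ← ih, cnt, bitsum, sum_range,
        Finset.sum_mul]
      congr 1
      exact Finset.sum_congr rfl fun p _ => by cases m.testBit (idx p) <;> simp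
  have hl : ∀ l : List ℕ, lsum l (l.map val) =
      ∑ p : GolayPt, sumL (l.map fun m => bif m.testBit (idx p) then val m else 0) := by
    intro l
    induction l with
    | nil => simp [lsum, sumL]
    | cons m l ih =>
      simp only [List.map_cons, lsum, sumL, Finset.sum_add_distrib, ← ih, cnt, bitsum, sum_range,
        Finset.sum_mul]
      congr 1
      exact Finset.sum_congr rfl fun p _ => by cases m.testBit (idx p) <;> simp
  have hbuild : ∀ i, y i = valL (buildL O (O.map val)) i := by
    intro p
    rw [valL, buildL, List.getD_eq_getElem _ _ (by simpa using idx_lt p)]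
    simp only [List.getElem_map, List.getElem_range]
    refine (hone id p).symm.trans ?_
    congr 1
    clear hp hone hw hl hentv hval hc
    induction O with
    | nil => rfl
    | cons m O ih =>
      rw [List.map_cons, List.map_cons, List.zip_cons_cons, List.map_cons, ih]
      rfl
  have hw' : wsum O (O.map val) = 32 := by
    rw [hw, ← hn, sqNorm]
    exact Finset.sum_congr rfl fun p _ => (hone (fun t => t * t) p).trans (sq _).symm
  have hl' : lsum O (O.map val) = ∑ p, y p := by
    rw [hl]; exact Finset.sum_congr rfl fun p _ => hone id p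
  have w_app : ∀ (A B : List ℕ), wsum (A ++ B) ((A ++ B).map val) =
      wsum A (A.map val) + wsum B (B.map val) ∧
      lsum (A ++ B) ((A ++ B).map val) = lsum A (A.map val) + lsum B (B.map val) := by
    intro A B
    induction A with
    | nil => simp [wsum, lsum]
    | cons m A ih =>
      simp only [List.cons_append, List.map_cons, wsum, lsum, ih.1, ih.2, add_assoc, and_self]
  have c1 : cnt 8388608 = 1 ∧ cnt 1 = 1 := by decide +kernel
  have va : val 8388608 = y pinf := (hval _ (by simp [hO, tailSets]) 23 (by norm_num) (by decide +kernel)).symm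
  have vb : val 1 = y pz := (hval _ (by simp [hO, tailSets]) 0 (by norm_num) (by decide +kernel)).symm
  rw [hO, (w_app _ _).1] at hw'
  rw [hO, (w_app _ _).2] at hl'
  simp only [tailSets, List.map_cons, List.map_nil, wsum, lsum, c1.1, c1.2, va, vb, one_mul,
    add_zero] at hw' hl'
  rw [dot_five] at h5
  rw [dot_min44] at hd
  refine ⟨buildL O (O.map val), List.mem_flatMap.2 ⟨ent, hent, List.mem_filter.2
    ⟨List.mem_map_of_mem (List.mem_filter.2 ⟨?_, ?_⟩), leechB_sound hbuild hy⟩⟩, hbuild⟩
  rotate_left
  · rw [← hcode]
    refine congrArg isCode (Nat.eq_of_testBit_eq fun i => ?_)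
    rw [← hO, maskV_testBit, maskOf_testBit]
    by_cases hi : i < 24
    · simp only [hi, decide_true, Bool.true_and]
      obtain ⟨m, hm⟩ : ∃ m, (O.filter fun m => m.testBit i) = [m] :=
        List.length_eq_one_iff.1 (Nat.eq_of_beq_eq_true (hp i hi))
      obtain ⟨hmO, hmb⟩ := List.mem_filter.1 (hm ▸ List.mem_singleton_self m : m ∈ O.filter _)
      cases hv : ent.2 (y (pt i))
      · simp only [List.any_eq_false, Bool.and_eq_true, not_and, Bool.not_eq_true]
        intro u hu hub
        rw [← hval u hu i hi hub]; exact hv
      · exact List.any_eq_true.2 ⟨m, hmO, by rw [← hval m hmO i hi hmb, hmb, hv]; rfl⟩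
    · simp only [hi, decide_false, Bool.false_and, List.any_eq_false, Bool.and_eq_true, not_and,
        Bool.not_eq_true]
      intro u hu hub
      have hu' : u < 2 ^ i := lt_of_lt_of_le (by
        simp only [hO, List.mem_append, tailSets, List.mem_cons, List.not_mem_nil, or_false] at hu
        rcases hu with hu | rfl | rfl
        exacts [hlt u hu, by norm_num, by norm_num] : u < 2 ^ 24)
        (Nat.pow_le_pow_right (by norm_num) (not_lt.1 hi))
      rw [Nat.testBit_eq_false_of_lt hu'] at hub
      cases hub
  rw [hO, List.map_append, hcs]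
  simp only [tailSets, List.map_cons, List.map_nil, va, vb]
  refine valuesP_mem (by omega) O₀ _ 0 32 (by simp) (fun v hv => ?_) hw' (by omega)
  obtain ⟨m, hm, rfl⟩ := List.mem_map.1 hv
  exact hentv m hm

end CfsgLib.KnownA.McLInvol
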