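import Cfsg.Agent.Lib.KnownA.McLInvol.Data
import Cfsg.Agent.Lib.KnownA.McLInvol.Search
import Cfsg.Agent.Lib.Golay.MatrixElement
import Cfsg.Agent.Lib.Fusion.McLSimple

/-!
Kernel evaluation of the certificate for the involution centraliser of the McLaughlin group.
-/

set_option autoImplicit false
set_option maxRecDepth 100000
set_option maxHeartbeats 0
set_option Elab.async false

namespace CfsgLib.KnownA.McLInvol

open Cfsg CfsgLib.Golay CfsgLib.Golay.FixSearch CfsgLib.Mathieu
open CfsgLib.Fusion.MathieuCert (el)
open CfsgLib.KnownA.Mathieu (eqW)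

/-- The signed entries of a packed vector. -/
def decL (c : ℕ) : List ℤ := (List.range 24).map fun i => Int.subNatNat (c >>> (5 * i) % 32) 16

/-- A vector of the table. -/
def ptF (i : ℕ) : GolayPt → ℤ := valL (decL (ptsL.getD i 0))

/-- A matrix. -/
def matF (k : ℕ) : GolayPt → GolayPt → ℤ := fun p =>
  valL (decL ((bif Nat.beq k 0 then mat0 else mat1).getD (idx p) 0))

/-- The image table of a matrix. -/
def imgTab (k i : ℕ) : ℕ := (imgsL.getD k []).getD i 0

/-- The permutation of the eight points of a matrix. -/
def eightTab (k a : ℕ) : ℕ := (eightL.getD k []).getD a 0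

/-- Its inverse. -/
def eightInv (k a : ℕ) : ℕ := (eightL.getD k []).idxOf a

/-- The code of a set of points. -/
def code (f : Fin 8 → Bool) : ℕ :=
  ((List.finRange 8).map fun a => bif f a then 2 ^ a.val else 0).sum

/-- Membership of a subset in a label. -/
def memL (i : ℕ) (m : ℕ) : Bool := (labL.getD i 0).testBit m

theorem check_pts : ptsL.length = 105 ∧ w11Idx < 105 ∧
    ((List.range 105).all fun i => inLat (ptF i) &&
      (List.range 24).all fun p => decide (ptF i (pt (img zc p)) = ptF i (pt p))) = true ∧
    ((List.range 24).all fun p => decide (ptF w11Idx (pt p) = if p = 23 then 3 else -1)) = true := by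
  decide +kernel

theorem check_norms : ((List.range 105).all fun i => decide (sqNorm (ptF i) = 32) &&
    decide (dotInt (fiveV : GolayPt → ℤ) (ptF i) = -8) &&
    decide (dotInt (min44 : GolayPt → ℤ) (ptF i) = 8)) = true := by
  decide +kernel

theorem check_distinct : ((List.range 105).all fun i => (List.range i).all fun j =>
    !Nat.beq (ptsL.getD i 0) (ptsL.getD j 0) &&
    (List.range 24).any fun p => !decide (ptF i (pt p) = ptF j (pt p))) = true := by
  decide +kernel

theorem check_orbs : partB (orbsL ++ tailSets) = true ∧
    (orbsL.all fun m => cycB zc m && Nat.blt m 16777216 && (List.range 24).any fun i => m.testBit i) = true := by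
  decide +kernel

/-- Membership of the table. -/
def inTab (l : List ℤ) : Bool :=
  ptsL.any fun c => (List.range 24).all fun i => decide (l.getD i 0 = (decL c).getD i 0)

theorem check_search_even : ((searchE orbsL (orbsL.map cnt) (entP.getD 0 ([], fun _ => false))).all inTab) = true := by
  decide +kernel

theorem check_search_odd : ((searchE orbsL (orbsL.map cnt) (entP.getD 1 ([], fun _ => false))).all inTab) = true := by
  decide +kernel

theorem check_mat0 : matOK (matF 0) = true := by decide +kernel

theorem check_mat1 : matOK (matF 1) = true := by decide +kernel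

theorem check_mat_fix : ((List.range 2).all fun k => (List.range 24).all fun p =>
    decide (matFun (matF k) (fiveV : GolayPt → ℤ) (pt p) = (fiveV : GolayPt → ℤ) (pt p)) &&
    decide (matFun (matF k) (min44 : GolayPt → ℤ) (pt p) = (min44 : GolayPt → ℤ) (pt p)) &&
    (List.range 24).all fun q => decide (matF k (pt (img zc p)) (pt (img zc q)) = matF k (pt p) (pt q))) =
    true := by
  decide +kernel

theorem check_img : ((List.range 2).all fun k => (List.range 105).all fun i =>
    Nat.blt (imgTab k i) 105 && (List.range 24).all fun p =>
      decide (matFun (matF k) (ptF i) (pt p) = ptF (imgTab k i) (pt p))) = true := by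
  decide +kernel

theorem check_eight : ((List.range 2).all fun k => (List.range 8).all fun a =>
    Nat.blt (eightTab k a) 8 && Nat.blt (eightInv k a) 8 && Nat.beq (eightInv k (eightTab k a)) a &&
      Nat.beq (eightTab k (eightInv k a)) a) = true := by
  decide +kernel

theorem check_labels : ((List.range 2).all fun k => (List.range 105).all fun i =>
    (List.range 256).all fun m =>
      memL (imgTab k i) (code fun a => m.testBit (eightInv k a)) == memL i m) = true := by
  decide +kernel

theorem code_spec : ∀ f : Fin 8 → Bool, code f < 256 ∧ ∀ a : Fin 8, (code f).testBit a = f a := by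
  decide +kernel

theorem check_iso : (isoL.all fun e => e.2.all (fun i => Nat.blt i 105) &&
    e.2.all (fun i => memL i e.1) &&
    (List.range 256).all fun m => !(e.2.all fun i => memL i m) || Nat.beq m e.1 || Nat.beq m (255 - e.1)) =
    true := by
  decide +kernel

/-- The membership of a point in an isolating subset. -/
def isoBit (j : Fin 5) (a : Fin 8) : Bool := (isoL.getD j (0, [])).1.testBit a

theorem check_iso_trans : isoL.length = 5 ∧
    (∀ j : Fin 5, code (isoBit j) = (isoL.getD j (0, [])).1 ∧
      code (fun a => !isoBit j a) = 255 - (isoL.getD j (0, [])).1) ∧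
    (∀ a b : Fin 8, (∀ j, isoBit j a = isoBit j b) → a = b) ∧
    ∀ s : Fin 5 → Bool, (∀ a : Fin 8, ∃ b : Fin 8, ∀ j, isoBit j b = (isoBit j a ^^ s j)) →
      ∀ j, s j = false := by
  decide +kernel

/-- The pairs of points. -/
def pairs8 : List (ℕ × ℕ) :=
  (List.range 8).flatMap fun a => ((List.range 8).filter fun b => Nat.blt a b).map fun b => (a, b)

/-- The image of a point under a transposition. -/
def swapN (a b x : ℕ) : ℕ := bif Nat.beq x a then b else bif Nat.beq x b then a else x

/-- The image of a point under a word. -/
def wordN (w : List ℕ) (x : ℕ) : ℕ := w.foldr (fun k y => eightTab k y) x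

theorem check_swaps : (pairs8.length = swapWords.length) ∧
    ((List.range 28).all fun n => (swapWords.getD n []).all (fun k => Nat.blt k 2) &&
      (List.range 8).all fun x => Nat.beq (wordN (swapWords.getD n []) x)
        (swapN (pairs8.getD n (0, 0)).1 (pairs8.getD n (0, 0)).2 (swapN 0 1 x))) = true ∧
    (∀ a b : Fin 8, a < b → ∃ n < 28, pairs8.getD n (0, 0) = (a.val, b.val)) := by
  decide +kernel

theorem check_root : inFix X22 zc = true ∧ inFix X22 rootc = true ∧
    eqW [rootc, rootc] [zc] = true ∧ eqW [zc, zc] [] = true ∧ img zc 1 ≠ 1 := by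
  decide +kernel

theorem check_conj : ((List.range 128).all fun d => Nat.beq d 0 ||
    !Nat.beq (Fusion.MathieuCert.M22.cert.sq.get d) 0 ||
    conjL.any fun e => Nat.beq e.1 d && inFix X22 e.2 &&
      eqW [e.2, el Fusion.MathieuCert.M22.cert d] [zc, e.2]) = true := by
  decide +kernel

theorem check_chain : cChainOK X22 [zc] zLevels zFin = true ∧ cCard zLevels = 384 := by
  decide +kernel

end CfsgLib.KnownA.McLInvol
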