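import Cfsg.Agent.Lib.KnownA.McLInvol.Basic
import Cfsg.Prelude.Def_SporadicB
import Cfsg.Agent.Lib.InvChar.DoubleCoverUtil

/-!
The centraliser of an involution of the McLaughlin group is a non-split double cover of the
alternating group of degree 8.
-/

set_option autoImplicit false
set_option maxRecDepth 100000

namespace CfsgLib.KnownA.McLInvol

open Cfsg CfsgLib.Golay CfsgLib.Golay.FixSearch CfsgLib.Mathieu
open CfsgLib.Fusion.MathieuCert.M22 (toMcl toMcl_injective)
open scoped Pointwise

/-- The centraliser. -/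
noncomputable abbrev CM : Subgroup mclGroup := Subgroup.centralizer {tM}

theorem mem_CM {g : mclGroup} : g ∈ CM ↔ g * tM = tM * g :=
  Subgroup.mem_centralizer_singleton_iff

theorem card_CM_le : Nat.card CM ≤ 40320 := by
  classical
  have h := Nat.card_congr (MulAction.orbitProdStabilizerEquivGroup CM w11)
  rw [Nat.card_prod] at h
  have h1 : Nat.card (MulAction.orbit CM w11) ≤ 105 := by
    have hsub : MulAction.orbit CM w11 ⊆ Set.range ptV := by
      rintro _ ⟨g, rfl⟩
      obtain ⟨j, hj⟩ := exists_smul_ptV (mem_CM.1 g.2) wI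
      rw [ptV_wI] at hj
      exact ⟨j, hj.symm⟩
    refine (Nat.card_mono (Set.finite_range ptV) hsub).trans ?_
    rw [Nat.card_range_of_injective ptV_injective, Nat.card_fin]
  have h2 : Nat.card (MulAction.stabilizer CM w11) ≤ 384 := by
    rw [← check_chain.2, ← card_commFix check_chain.1]
    have hex : ∀ g : MulAction.stabilizer CM w11, ∃ σ : commFix X22 [zc],
        toMcl ⟨σ, σ.2.1⟩ = (g.1 : mclGroup) := by
      intro g
      obtain ⟨τ, hτ⟩ := mem_range_mclHom (g := (g.1 : mclGroup)) g.2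
      have hmem : ((τ : M24) : Equiv.Perm GolayPt) ∈ fixMasks X22 := by
        rw [show X22 = Nat.shiftLeft 1 0 :: X23 from rfl, mem_fixMasks_bit (by norm_num : 0 < 24),
          show X23 = [Nat.shiftLeft 1 23] from rfl, mem_fixMasks_bit (by norm_num : 23 < 24),
          fixMasks_nil]
        exact ⟨⟨τ.1.2, τ.2.1⟩, τ.2.2⟩
      have hg : toMcl ⟨_, hmem⟩ = (g.1 : mclGroup) := hτ
      refine ⟨⟨_, hmem, fun t ht => ?_⟩, hg⟩
      rw [List.mem_singleton.1 ht]
      have hc := mem_CM.1 g.1.2
      rw [← hg, tM, ← map_mul, ← map_mul] at hc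
      exact congrArg Subtype.val (toMcl_injective hc)
    choose f hf using hex
    exact Nat.card_le_card_of_injective f fun a b hab => Subtype.ext (Subtype.ext (by
      rw [← hf a, ← hf b, hab]))
  rw [← h]
  exact Nat.mul_le_mul h1 h2

/-- `π` describes the action of `g` on the labels. -/
def Rel (g : mclGroup) (π : Equiv.Perm (Fin 8)) : Prop :=
  ∀ i j : Fin 105, (g : Co0) • ptV i = ptV j →
    ∀ f : Fin 8 → Bool, memL j (code fun a => f (π.symm a)) = memL i (code f)

theorem rel_one : Rel 1 1 := by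
  intro i j h f
  rw [OneMemClass.coe_one, one_smul] at h
  rw [ptV_injective h]
  rfl

theorem rel_tM : Rel tM 1 := by
  intro i j h f
  rw [tM_ptV] at h
  rw [ptV_injective h]
  rfl

theorem rel_mul {g g' : mclGroup} {π π' : Equiv.Perm (Fin 8)} (hg' : g' ∈ CM) (h : Rel g π)
    (h' : Rel g' π') : Rel (g * g') (π * π') := by
  intro i j hij f
  obtain ⟨l, hl⟩ := exists_smul_ptV (mem_CM.1 hg') i
  rw [Subgroup.coe_mul, mul_smul, hl] at hij
  exact (h l j hij fun a => f (π'.symm a)).trans (h' i l hl f)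

theorem rel_inv {g : mclGroup} {π : Equiv.Perm (Fin 8)} (h : Rel g π) : Rel g⁻¹ π⁻¹ := by
  intro i j hij f
  rw [Subgroup.coe_inv, inv_smul_eq_iff] at hij
  have := h j i hij.symm fun a => f (π a)
  simp only [Equiv.apply_symm_apply] at this
  exact this.symm

theorem code_inj {f f' : Fin 8 → Bool} (h : code f = code f') : f = f' :=
  funext fun a => by rw [← (code_spec f).2 a, h, (code_spec f').2 a]

theorem rel_one_unique {π : Equiv.Perm (Fin 8)} (h : Rel 1 π) : π = 1 := by
  have hfix : ∀ (i : Fin 105) (f : Fin 8 → Bool),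
      memL i (code fun a => f (π.symm a)) = memL i (code f) := fun i f =>
    h i i (by rw [OneMemClass.coe_one, one_smul]) f
  obtain ⟨hlen, hco, hsep, htr⟩ := check_iso_trans
  have hiso := check_iso
  simp only [List.all_eq_true, List.mem_range, Bool.and_eq_true, Bool.or_eq_true,
    Bool.not_eq_true'] at hiso
  have hs : ∀ j : Fin 5, ∃ s : Bool, ∀ a, isoBit j (π.symm a) = (isoBit j a ^^ s) := by
    intro j
    have he : isoL.getD j (0, []) ∈ isoL := by
      rw [List.getD_eq_getElem _ _ (by rw [hlen]; exact j.2)]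
      exact List.getElem_mem _
    obtain ⟨⟨hw1, hw2⟩, hw3⟩ := hiso _ he
    have hall : ((isoL.getD j (0, [])).2.all fun i => memL i (code fun a => isoBit j (π.symm a))) =
        true := by
      refine List.all_eq_true.2 fun i hi => ?_
      have := hfix ⟨i, Nat.le_of_ble_eq_true (hw1 i hi)⟩ (isoBit j)
      rw [this, (hco j).1]
      exact hw2 i hi
    rcases hw3 _ (code_spec fun a => isoBit j (π.symm a)).1 with (h1 | h1) | h1
    · rw [hall] at h1; cases h1
    · refine ⟨false, fun a => ?_⟩
      rw [Bool.xor_false]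
      exact congrFun (code_inj ((Nat.eq_of_beq_eq_true h1).trans (hco j).1.symm)) a
    · refine ⟨true, fun a => ?_⟩
      rw [Bool.xor_true]
      exact congrFun (code_inj (f' := fun a => !isoBit j a)
        ((Nat.eq_of_beq_eq_true h1).trans (hco j).2.symm)) a
  choose s hs using hs
  have hs0 := htr s fun a => ⟨π.symm a, fun j => hs j a⟩
  have e : ∀ a, π.symm a = a := fun a => hsep _ _ fun j => by
    rw [hs j a, hs0 j, Bool.xor_false]
  refine Equiv.ext fun a => ?_
  conv_lhs => rw [← e a, Equiv.apply_symm_apply]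
  rfl

theorem rel_unique {g : mclGroup} {π π' : Equiv.Perm (Fin 8)} (hg : g ∈ CM) (h : Rel g π)
    (h' : Rel g π') : π = π' := by
  have := rel_mul hg (rel_inv h') h
  rw [inv_mul_cancel] at this
  exact (inv_mul_eq_one.1 (rel_one_unique this)).symm

theorem eight_facts (k : Fin 2) (a : Fin 8) : eightTab k a < 8 ∧ eightInv k a < 8 ∧
    eightInv k (eightTab k a) = a ∧ eightTab k (eightInv k a) = a := by
  have h := check_eight
  simp only [List.all_eq_true, List.mem_range, Bool.and_eq_true] at h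
  obtain ⟨⟨⟨h1, h2⟩, h3⟩, h4⟩ := h k k.2 a a.2
  exact ⟨Nat.le_of_ble_eq_true h1, Nat.le_of_ble_eq_true h2, Nat.eq_of_beq_eq_true h3,
    Nat.eq_of_beq_eq_true h4⟩

/-- The permutation of a matrix element. -/
def ePerm (k : Fin 2) : Equiv.Perm (Fin 8) where
  toFun a := ⟨eightTab k a, (eight_facts k a).1⟩
  invFun a := ⟨eightInv k a, (eight_facts k a).2.1⟩
  left_inv a := Fin.ext (eight_facts k a).2.2.1
  right_inv a := Fin.ext (eight_facts k a).2.2.2

theorem rel_gM (k : Fin 2) : Rel (gM k) (ePerm k) := by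
  intro i j hij f
  obtain ⟨j', hj', hv⟩ := gM_ptV k i
  obtain rfl : j = j' := ptV_injective (hij.symm.trans hj')
  obtain ⟨hlt, hbit⟩ := code_spec f
  have h := check_labels
  simp only [List.all_eq_true, List.mem_range, beq_iff_eq] at h
  have h' := h k k.2 i i.2 _ hlt
  have e : (fun a : Fin 8 => (code f).testBit (eightInv k a)) = fun a => f ((ePerm k).symm a) :=
    funext fun a => hbit ((ePerm k).symm a)
  rw [e] at h'
  rw [hv]
  exact h'

/-- The generators. -/
noncomputable def gensC : Set mclGroup := {gM 0, gM 1, tM}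

/-- The generated subgroup. -/
noncomputable abbrev KC : Subgroup mclGroup := Subgroup.closure gensC

theorem KC_le : KC ≤ CM := by
  refine (Subgroup.closure_le _).2 ?_
  rintro g (rfl | rfl | rfl)
  exacts [mem_CM.2 (gM_comm 0), mem_CM.2 (gM_comm 1), mem_CM.2 rfl]

theorem exists_rel {g : mclGroup} (hg : g ∈ KC) : ∃ π, Rel g π := by
  induction hg using Subgroup.closure_induction with
  | mem x hx =>
    rcases hx with rfl | rfl | rfl
    exacts [⟨_, rel_gM 0⟩, ⟨_, rel_gM 1⟩, ⟨_, rel_tM⟩]
  | one => exact ⟨_, rel_one⟩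
  | mul a b _ hb iha ihb =>
    obtain ⟨π, hπ⟩ := iha
    obtain ⟨π', hπ'⟩ := ihb
    exact ⟨_, rel_mul (KC_le hb) hπ hπ'⟩
  | inv a _ iha =>
    obtain ⟨π, hπ⟩ := iha
    exact ⟨_, rel_inv hπ⟩

/-- The action on the eight points. -/
noncomputable def phi : KC →* Equiv.Perm (Fin 8) :=
  MonoidHom.mk' (fun g => (exists_rel g.2).choose) fun a b =>
    rel_unique (KC_le (a * b).2) (exists_rel (a * b).2).choose_spec
      (rel_mul (KC_le b.2) (exists_rel a.2).choose_spec (exists_rel b.2).choose_spec)

theorem phi_eq {g : KC} {π : Equiv.Perm (Fin 8)} (h : Rel g π) : phi g = π :=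
  rel_unique (KC_le g.2) (exists_rel g.2).choose_spec h

theorem gM_mem (k : Fin 2) : gM k ∈ KC := Subgroup.subset_closure (by
  fin_cases k
  exacts [Or.inl rfl, Or.inr (Or.inl rfl)])

theorem tM_mem : tM ∈ KC := Subgroup.subset_closure (Or.inr (Or.inr rfl))

theorem phi_tM : phi ⟨tM, tM_mem⟩ = 1 := phi_eq rel_tM

theorem ePerm_mem (k : Fin 2) : ePerm k ∈ phi.range := ⟨⟨gM k, gM_mem k⟩, phi_eq (rel_gM k)⟩

/-- The permutation of a word. -/
def wPerm (w : List ℕ) : Equiv.Perm (Fin 8) := (w.map fun k => ePerm (Fin.ofNat 2 k)).prod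

theorem wPerm_mem (w : List ℕ) : wPerm w ∈ phi.range :=
  Subgroup.list_prod_mem _ fun x hx => by
    obtain ⟨k, -, rfl⟩ := List.mem_map.1 hx
    exact ePerm_mem _

theorem wPerm_apply : ∀ (w : List ℕ), (∀ k ∈ w, k < 2) → ∀ a : Fin 8,
    ((wPerm w a : Fin 8) : ℕ) = wordN w a
  | [], _, a => rfl
  | k :: w, h, a => by
    have ih := wPerm_apply w (fun u hu => h u (List.mem_cons_of_mem _ hu)) a
    have hk : ((Fin.ofNat 2 k : Fin 2) : ℕ) = k :=
      Nat.mod_eq_of_lt (h k (List.mem_cons_self ..))
    simp only [wPerm, List.map_cons, List.prod_cons, Equiv.Perm.mul_apply, wordN, List.foldr_cons]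
    show eightTab (Fin.ofNat 2 k : Fin 2) _ = _
    rw [hk]
    exact congrArg (eightTab k) ih

theorem swap_mul_mem {a b : Fin 8} (h : a ≠ b) :
    Equiv.swap a b * Equiv.swap 0 1 ∈ phi.range := by
  wlog hab : a < b generalizing a b
  · rw [Equiv.swap_comm]
    exact this h.symm (lt_of_le_of_ne (not_lt.1 hab) h.symm)
  obtain ⟨-, hw, hex⟩ := check_swaps
  obtain ⟨n, hn, hp⟩ := hex a b hab
  simp only [List.all_eq_true, List.mem_range, Bool.and_eq_true] at hw
  obtain ⟨hw1, hw2⟩ := hw n hn
  rw [hp] at hw2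
  convert wPerm_mem (swapWords.getD n []) using 1
  refine Equiv.ext fun x => Fin.ext ?_
  rw [wPerm_apply _ (fun k hk => Nat.le_of_ble_eq_true (hw1 k hk)),
    Nat.eq_of_beq_eq_true (hw2 x x.2)]
  have key : ∀ u v y : Fin 8, ((Equiv.swap u v y : Fin 8) : ℕ) = swapN u v y := by decide +kernel
  rw [Equiv.Perm.mul_apply, key, key]
  rfl

theorem alt_le : alternatingGroup (Fin 8) ≤ phi.range := by
  have h01 : Equiv.Perm.sign (Equiv.swap (0 : Fin 8) 1) = -1 := Equiv.Perm.sign_swap (by decide)
  have main : ∀ σ : Equiv.Perm (Fin 8), (Equiv.Perm.sign σ = 1 → σ ∈ phi.range) ∧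
      (Equiv.Perm.sign σ = -1 → Equiv.swap 0 1 * σ ∈ phi.range) := by
    intro σ
    induction σ using Equiv.Perm.swap_induction_on with
    | one => exact ⟨fun _ => one_mem _, fun h => absurd h (by simp)⟩
    | swap_mul f x y hxy ih =>
      rw [Equiv.Perm.sign_mul, Equiv.Perm.sign_swap hxy]
      rcases Int.units_eq_one_or (Equiv.Perm.sign f) with h | h <;> rw [h]
      · refine ⟨fun h' => absurd h' (by decide), fun _ => ?_⟩
        have e := mul_mem (inv_mem (swap_mul_mem hxy)) (ih.1 h)
        rwa [mul_inv_rev, Equiv.swap_inv, Equiv.swap_inv, mul_assoc] at e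
      · refine ⟨fun _ => ?_, fun h' => absurd h' (by decide)⟩
        have e := mul_mem (swap_mul_mem hxy) (ih.2 h)
        rwa [mul_assoc, Equiv.swap_mul_self_mul] at e
  exact fun σ hσ => (main σ).1 (Equiv.Perm.mem_alternatingGroup.1 hσ)

theorem range_le : phi.range ≤ alternatingGroup (Fin 8) := by
  rintro _ ⟨⟨g, hg⟩, rfl⟩
  induction hg using Subgroup.closure_induction with
  | mem x hx =>
    have hs : ∀ k : Fin 2, Equiv.Perm.sign (ePerm k) = 1 := by decide +kernel
    rcases hx with rfl | rfl | rfl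
    · rw [phi_eq (rel_gM 0)]; exact Equiv.Perm.mem_alternatingGroup.2 (hs 0)
    · rw [phi_eq (rel_gM 1)]; exact Equiv.Perm.mem_alternatingGroup.2 (hs 1)
    · rw [phi_eq rel_tM]; exact one_mem _
  | one =>
    rw [phi_eq rel_one]
    exact one_mem _
  | mul a b ha hb iha ihb =>
    have := mul_mem iha ihb
    rw [← map_mul] at this
    exact this
  | inv a ha iha =>
    have := inv_mem iha
    rw [← map_inv] at this
    exact this

theorem range_phi : phi.range = alternatingGroup (Fin 8) := le_antisymm range_le alt_le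

theorem card_alt : Nat.card (alternatingGroup (Fin 8)) = 20160 := by
  rw [nat_card_alternatingGroup, Nat.card_fin]
  decide

theorem tM_ker : (⟨tM, tM_mem⟩ : KC) ∈ phi.ker := phi_tM

theorem one_lt_ker : 2 ≤ Nat.card phi.ker := by
  haveI : Nontrivial phi.ker := ⟨⟨1, ⟨⟨tM, tM_mem⟩, tM_ker⟩, fun h =>
    tM_ne (congrArg (fun x : phi.ker => ((x : KC) : mclGroup)) h).symm⟩⟩
  exact Finite.one_lt_card

theorem card_KC_ge : Nat.card phi.ker * 20160 = Nat.card KC := by
  rw [← card_alt, ← range_phi, ← Subgroup.card_mul_index phi.ker, Subgroup.index_ker]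

theorem KC_eq : KC = CM :=
  Subgroup.eq_of_le_of_card_ge KC_le (by
    have := card_KC_ge
    have := one_lt_ker
    have := card_CM_le
    omega)

theorem card_ker : Nat.card phi.ker = 2 := by
  have := card_KC_ge
  have := one_lt_ker
  have h := card_CM_le
  rw [← KC_eq] at h
  omega

/-- The covering map. -/
noncomputable def cover : CM →* alternatingGroup (Fin 8) :=
  (phi.comp (MulEquiv.subgroupCongr KC_eq.symm).toMonoidHom).codRestrict _ fun g =>
    range_le ⟨_, rfl⟩

theorem cover_surjective : Function.Surjective cover := by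
  rintro ⟨π, hπ⟩
  obtain ⟨g, rfl⟩ := alt_le hπ
  exact ⟨⟨g, KC_le g.2⟩, Subtype.ext rfl⟩

/-- The involution in its centraliser. -/
noncomputable def tC : CM := ⟨tM, mem_CM.2 rfl⟩

theorem tC_mem_center : tC ∈ Subgroup.center CM :=
  Subgroup.mem_center_iff.2 fun g => Subtype.ext (mem_CM.1 g.2)

theorem ker_cover {g : CM} : g ∈ cover.ker ↔ g = 1 ∨ g = tC := by
  have h1 : g ∈ cover.ker ↔ (⟨g, KC_eq.symm ▸ g.2⟩ : KC) ∈ phi.ker := by
    rw [MonoidHom.mem_ker, MonoidHom.mem_ker]
    exact ⟨fun h => congrArg Subtype.val h, fun h => Subtype.ext h⟩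
  rw [h1]
  constructor
  · intro h
    by_contra hne
    simp only [not_or] at hne
    classical
    haveI := Fintype.ofFinite phi.ker
    have h3 : ({(1 : phi.ker), ⟨⟨tM, tM_mem⟩, tM_ker⟩, ⟨_, h⟩} : Finset phi.ker).card = 3 := by
      refine Finset.card_eq_three.2 ⟨_, _, _, ?_, ?_, ?_, rfl⟩
      · exact fun e => tM_ne (congrArg (fun x : phi.ker => ((x : KC) : mclGroup)) e).symm
      · exact fun e => hne.1 (Subtype.ext
          (congrArg (fun x : phi.ker => ((x : KC) : mclGroup)) e).symm)
      · exact fun e => hne.2 (Subtype.ext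
          (congrArg (fun x : phi.ker => ((x : KC) : mclGroup)) e).symm)
    have := Finset.card_le_univ ({(1 : phi.ker), ⟨⟨tM, tM_mem⟩, tM_ker⟩, ⟨_, h⟩} : Finset phi.ker)
    rw [h3, ← Nat.card_eq_fintype_card, card_ker] at this
    omega
  · rintro (rfl | rfl)
    · exact one_mem phi.ker
    · exact tM_ker

theorem center_eq : Subgroup.center CM = cover.ker := by
  refine le_antisymm (fun g hg => ?_) fun g hg => ?_
  · have h : cover g ∈ Subgroup.center (alternatingGroup (Fin 8)) :=
      Subgroup.mem_center_iff.2 fun x => by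
        obtain ⟨y, rfl⟩ := cover_surjective x
        rw [← map_mul, ← map_mul, Subgroup.mem_center_iff.1 hg y]
    rw [alternatingGroup.center_eq_bot (by simp)] at h
    exact Subgroup.mem_bot.1 h
  · rcases ker_cover.1 hg with rfl | rfl
    exacts [one_mem _, tC_mem_center]

theorem center_cases {c : CM} (hc : c ∈ Subgroup.center CM) : c = 1 ∨ c = tC :=
  ker_cover.1 (center_eq ▸ hc)

theorem isNonsplit : IsNonsplitDoubleCover CM (alternatingGroup (Fin 8)) := by
  refine ⟨?_, ⟨(QuotientGroup.quotientMulEquivOfEq center_eq).trans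
    (QuotientGroup.quotientKerEquivOfSurjective cover cover_surjective)⟩, fun L hL => ?_⟩
  · have e : (Subgroup.center CM : Set CM) = {1, tC} := Set.ext fun c => by
      rw [SetLike.mem_coe, center_eq, ker_cover]
      rfl
    rw [← SetLike.coe_sort_coe, e, Nat.card_coe_set_eq, Set.ncard_pair]
    exact fun h => tM_ne (congrArg Subtype.val h).symm
  · let x : CM := ⟨xM, mem_CM.2 (by rw [← xM_sq, mul_assoc])⟩
    have hx : x * x = tC := Subtype.ext xM_sq
    obtain ⟨⟨⟨c, hc⟩, l, hl⟩, hcl⟩ := hL.2 x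
    replace hcl : c * l = x := hcl
    have hcc : c * c = 1 := by
      rcases center_cases hc with rfl | rfl
      · exact one_mul 1
      · exact Subtype.ext tM_sq
    have hll : tC = l * l := by
      rw [← hx, ← hcl,
        show c * l * (c * l) = c * (l * c) * l by simp [mul_assoc],
        Subgroup.mem_center_iff.1 hc l, ← mul_assoc, hcc, one_mul]
    have := hL.disjoint.le_bot ⟨tC_mem_center, (hll ▸ mul_mem hl hl : tC ∈ L)⟩
    exact tM_ne (congrArg Subtype.val (Subgroup.mem_bot.1 this))

theorem mcl_involution :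
    (∀ x y : Spor.McL, orderOf x = 2 → orderOf y = 2 → IsConj x y) ∧
      ∃ t : Spor.McL, orderOf t = 2 ∧
        IsNonsplitDoubleCover ↥(Subgroup.centralizer ({t} : Set Spor.McL))
          ↥(alternatingGroup (Fin 8)) := by
  set e := CfsgLib.Fusion.MathieuCert.M22.mclEquiv
  refine ⟨fun x y hx hy => ?_, e tM, by rw [MulEquiv.orderOf_eq, orderOf_tM], ?_⟩
  · have h : ∀ z : Spor.McL, orderOf z = 2 → IsConj z (e tM) := fun z hz => by
      have := e.toMonoidHom.map_isConj (isConj_tM (y := e.symm z) (by rw [MulEquiv.orderOf_eq, hz]))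
      simpa using this
    exact (h x hx).trans (h y hy).symm
  · have hmap : CM.map (e : mclGroup →* Spor.McL) = Subgroup.centralizer {e tM} := by
      ext g
      rw [show CM.map (e : mclGroup →* Spor.McL) = CM.map e.toMonoidHom from rfl,
        Subgroup.mem_map_equiv, mem_CM, Subgroup.mem_centralizer_singleton_iff]
      exact ⟨fun h => by simpa using congrArg e h, fun h => by simpa using congrArg e.symm h⟩
    exact CfsgLib.InvChar.DoubleCoverUtil.double_cover_of_mulEquiv
      ((e.subgroupMap CM).trans (MulEquiv.subgroupCongr hmap)) isNonsplit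

end CfsgLib.KnownA.McLInvol
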